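import Cfsg.Agent.FM.T22

/-! Kernel checks of the tables. -/

set_option autoImplicit false
set_option maxRecDepth 100000
set_option Elab.async false

namespace Cfsg.Agent.FM.F22

open Cfsg.Agent.M24 (nall lall)

theorem ck0 : (net0.ok && rngOK 3510 (NL.fwd net0) && scan 3510 (agA 3510 12 (NL.fwd net0) (act 0)) 7 0) = true := by
  decide +kernel
theorem ckadj : Nat.beq cd0.adj0 (cd0.fixOf (cd0.img 0)) = true := by decide +kernel

theorem ck1 : (net1.ok && rngOK 3510 (NL.fwd net1) && scan 3510 (agA 3510 12 (NL.fwd net1) (act 1)) 7 0) = true := by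
  decide +kernel

theorem ck2 : (net2.ok && rngOK 3510 (NL.fwd net2) && scan 3510 (agA 3510 12 (NL.fwd net2) (act 2)) 7 0) = true := by
  decide +kernel

theorem ck3 : (net3.ok && rngOK 3510 (NL.fwd net3) && scan 3510 (agA 3510 12 (NL.fwd net3) (act 3)) 7 0) = true := by
  decide +kernel

theorem ck4 : (net4.ok && rngOK 3510 (NL.fwd net4) && scan 3510 (agA 3510 12 (NL.fwd net4) (act 4)) 7 0) = true := by
  decide +kernel

theorem ck5 : (net5.ok && rngOK 3510 (NL.fwd net5) && scan 3510 (agA 3510 12 (NL.fwd net5) (act 5)) 7 0) = true := by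
  decide +kernel

theorem ck6 : (net6.ok && rngOK 3510 (NL.fwd net6) && scan 3510 (agA 3510 12 (NL.fwd net6) (act 6)) 7 0) = true := by
  decide +kernel

theorem ck7 : (net7.ok && rngOK 3510 (NL.fwd net7) && scan 3510 (agA 3510 12 (NL.fwd net7) (act 7)) 7 0) = true := by
  decide +kernel

theorem ck8 : (net8.ok && rngOK 3510 (NL.fwd net8) && scan 3510 (agA 3510 12 (NL.fwd net8) (act 8)) 7 0) = true := by
  decide +kernel

theorem ck9 : (net9.ok && rngOK 3510 (NL.fwd net9) && scan 3510 (agA 3510 12 (NL.fwd net9) (act 9)) 7 0) = true := by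
  decide +kernel

theorem ck10 : (net10.ok && rngOK 3510 (NL.fwd net10) && scan 3510 (agA 3510 12 (NL.fwd net10) (act 11)) 7 0) = true := by
  decide +kernel
theorem ck11 : (rngOK 3510 (NL.rev net10) && scan 3510 (agA 3510 12 (NL.rev net10) (act 10)) 7 0) = true := by
  decide +kernel
theorem ckw10 : plEq 3510 12 (NL.fwd net10) (cd0.wimg [5, 0, 3, 1, 8, 4, 6, 2, 7, 9]) = true := by
  decide +kernel

theorem ck12 : (net12.ok && rngOK 3510 (NL.fwd net12) && scan 3510 (agA 3510 12 (NL.fwd net12) (act 13)) 7 0) = true := by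
  decide +kernel
theorem ck13 : (rngOK 3510 (NL.rev net12) && scan 3510 (agA 3510 12 (NL.rev net12) (act 12)) 7 0) = true := by
  decide +kernel
theorem ckw12 : plEq 3510 12 (NL.fwd net12) (cd0.wimg [11, 2, 11, 0, 11, 0, 11, 9, 11, 5, 11]) = true := by
  decide +kernel

theorem ck14 : (net14.ok && rngOK 3510 (NL.fwd net14) && scan 3510 (agA 3510 12 (NL.fwd net14) (act 15)) 7 0) = true := by
  decide +kernel
theorem ck15 : (rngOK 3510 (NL.rev net14) && scan 3510 (agA 3510 12 (NL.rev net14) (act 14)) 7 0) = true := by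
  decide +kernel
theorem ckw14 : plEq 3510 12 (NL.fwd net14) (cd0.wimg [13, 7, 12, 0, 10, 2, 11, 1, 13, 0, 10]) = true := by
  decide +kernel

theorem ck16 : (net16.ok && rngOK 3510 (NL.fwd net16) && scan 3510 (agA 3510 12 (NL.fwd net16) (act 17)) 7 0) = true := by
  decide +kernel
theorem ck17 : (rngOK 3510 (NL.rev net16) && scan 3510 (agA 3510 12 (NL.rev net16) (act 16)) 7 0) = true := by
  decide +kernel
theorem ckw16 : plEq 3510 12 (NL.fwd net16) (cd0.wimg [10, 9, 11, 5, 12, 6, 15, 6, 12, 9, 13]) = true := by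
  decide +kernel

theorem ckp0 : scan 3510 (cd0.parChk dep) 7 0 = true := by decide +kernel
theorem ckslp : List.map cd0.slp [[0], [1754, 0, 1747, 2879, 2554, 1747, 722, 1754, 0], [1754, 2879, 2554, 1747, 722, 0, 2879, 1747, 1754, 0], [1754, 722, 2879, 1747, 1754, 2879, 722, 2554, 1747, 2879, 0], [2879, 722, 0, 1754, 1747, 2554, 1754, 2879, 1747, 0], [2879, 1747, 1754, 2554, 0, 1747, 722, 2879], [1754, 1747, 2879, 722, 2554, 1747, 2879, 0], [1754, 0, 1747, 722, 1747, 2879, 2554, 1747, 1754, 0], [1754, 722, 2879, 2554, 1754, 1747], [2554, 0, 1747, 722, 1754, 2879, 1747, 0]] = cd0.bs := by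
  decide +kernel

end Cfsg.Agent.FM.F22
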