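import Cfsg.Agent.FM.T21
import Cfsg.Agent.FM.Bridge

/-! Comparison with the tables of `Fi`. -/

set_option autoImplicit false
set_option maxRecDepth 100000
set_option Elab.async false

namespace Cfsg.Agent.FM.F21

open Cfsg.Agent.M24 (nall lall)

theorem br0_0 : scan 693 (brChk (act 0) (Fi.R21 0) 693) 5 0 = true := by decide +kernel

theorem br1_0 : scan 693 (brChk (act 1) (Fi.R21 1) 693) 5 0 = true := by decide +kernel

theorem br2_0 : scan 693 (brChk (act 2) (Fi.R21 2) 693) 5 0 = true := by decide +kernel

theorem br3_0 : scan 693 (brChk (act 3) (Fi.R21 3) 693) 5 0 = true := by decide +kernel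

theorem br4_0 : scan 693 (brChk (act 4) (Fi.R21 4) 693) 5 0 = true := by decide +kernel

theorem br5_0 : scan 693 (brChk (act 5) (Fi.R21 5) 693) 5 0 = true := by decide +kernel

theorem br6_0 : scan 693 (brChk (act 6) (Fi.R21 6) 693) 5 0 = true := by decide +kernel

theorem br7_0 : scan 693 (brChk (act 7) (Fi.R21 7) 693) 5 0 = true := by decide +kernel

end Cfsg.Agent.FM.F21
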