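import Cfsg.Agent.FM.T21

/-! Kernel checks of the tables. -/

set_option autoImplicit false
set_option maxRecDepth 100000
set_option Elab.async false

namespace Cfsg.Agent.FM.F21

open Cfsg.Agent.M24 (nall lall)

theorem ck0 : (net0.ok && rngOK 693 (NL.fwd net0) && scan 693 (agA 693 10 (NL.fwd net0) (act 0)) 5 0) = true := by
  decide +kernel
theorem ckadj : Nat.beq cd0.adj0 (cd0.fixOf (cd0.img 0)) = true := by decide +kernel

theorem ck1 : (net1.ok && rngOK 693 (NL.fwd net1) && scan 693 (agA 693 10 (NL.fwd net1) (act 1)) 5 0) = true := by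
  decide +kernel

theorem ck2 : (net2.ok && rngOK 693 (NL.fwd net2) && scan 693 (agA 693 10 (NL.fwd net2) (act 2)) 5 0) = true := by
  decide +kernel

theorem ck3 : (net3.ok && rngOK 693 (NL.fwd net3) && scan 693 (agA 693 10 (NL.fwd net3) (act 3)) 5 0) = true := by
  decide +kernel

theorem ck4 : (net4.ok && rngOK 693 (NL.fwd net4) && scan 693 (agA 693 10 (NL.fwd net4) (act 4)) 5 0) = true := by
  decide +kernel

theorem ck5 : (net5.ok && rngOK 693 (NL.fwd net5) && scan 693 (agA 693 10 (NL.fwd net5) (act 5)) 5 0) = true := by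
  decide +kernel

theorem ck6 : (net6.ok && rngOK 693 (NL.fwd net6) && scan 693 (agA 693 10 (NL.fwd net6) (act 6)) 5 0) = true := by
  decide +kernel

theorem ck7 : (net7.ok && rngOK 693 (NL.fwd net7) && scan 693 (agA 693 10 (NL.fwd net7) (act 7)) 5 0) = true := by
  decide +kernel

theorem ck8 : (net8.ok && rngOK 693 (NL.fwd net8) && scan 693 (agA 693 10 (NL.fwd net8) (act 9)) 5 0) = true := by
  decide +kernel
theorem ck9 : (rngOK 693 (NL.rev net8) && scan 693 (agA 693 10 (NL.rev net8) (act 8)) 5 0) = true := by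
  decide +kernel
theorem ckw8 : plEq 693 10 (NL.fwd net8) (cd0.wimg [5, 0, 1, 2, 6, 7, 3, 4]) = true := by
  decide +kernel

theorem ck10 : (net10.ok && rngOK 693 (NL.fwd net10) && scan 693 (agA 693 10 (NL.fwd net10) (act 11)) 5 0) = true := by
  decide +kernel
theorem ck11 : (rngOK 693 (NL.rev net10) && scan 693 (agA 693 10 (NL.rev net10) (act 10)) 5 0) = true := by
  decide +kernel
theorem ckw10 : plEq 693 10 (NL.fwd net10) (cd0.wimg [9, 7, 9, 4, 9, 7, 8, 0, 9, 4, 8]) = true := by
  decide +kernel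

theorem ck12 : (net12.ok && rngOK 693 (NL.fwd net12) && scan 693 (agA 693 10 (NL.fwd net12) (act 13)) 5 0) = true := by
  decide +kernel
theorem ck13 : (rngOK 693 (NL.rev net12) && scan 693 (agA 693 10 (NL.rev net12) (act 12)) 5 0) = true := by
  decide +kernel
theorem ckw12 : plEq 693 10 (NL.fwd net12) (cd0.wimg [9, 0, 9, 4, 9, 4, 10, 4, 9, 2, 9]) = true := by
  decide +kernel

theorem ck14 : (net14.ok && rngOK 693 (NL.fwd net14) && scan 693 (agA 693 10 (NL.fwd net14) (act 15)) 5 0) = true := by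
  decide +kernel
theorem ck15 : (rngOK 693 (NL.rev net14) && scan 693 (agA 693 10 (NL.rev net14) (act 14)) 5 0) = true := by
  decide +kernel
theorem ckw14 : plEq 693 10 (NL.fwd net14) (cd0.wimg [9, 7, 10, 1, 9, 0, 8, 1, 9, 6, 11]) = true := by
  decide +kernel

theorem ckp0 : scan 693 (cd0.parChk dep) 5 0 = true := by decide +kernel
theorem ckslp : List.map cd0.slp [[0], [14, 43, 305, 22, 461, 0], [305, 0, 14, 22, 0, 461, 22, 305, 0], [305, 461, 0, 14, 43], [305, 43, 22, 305, 14, 43, 22, 461, 0], [305, 0, 461, 22, 43, 0, 305, 461, 22], [14, 0, 22, 461, 43, 22, 305, 14, 0], [43, 0, 461, 22, 0, 14, 43]] = cd0.bs := by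
  decide +kernel

end Cfsg.Agent.FM.F21
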