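import Cfsg.Agent.FM.B21_0
import Cfsg.Agent.FM.K21_0

/-! The model on 693 points from generator tables. -/

set_option autoImplicit false
set_option maxRecDepth 100000
set_option Elab.async false

namespace Cfsg.Agent.FM.F21

open Cfsg.Agent.M24 (nall lall)

variable {G : Type*} [Group G] {D : Set G}

theorem exists_mdl {β : ℕ → G} (h : Fi.Model Fi.R21 Fi.fs21 693 D β) :
    ∃ N : Mdl G D cd, N.pt = β := by
  let P : Pts G D cd0.n := ptsOf h
  have c0 := ck0
  simp only [Bool.and_eq_true] at c0
  have a0 := br_spec h (i := 0) (by decide) (f := act 0) (scan_all (d := 5) (c := 1) (by decide)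
    fun lo h => by interval_cases lo <;> first | exact br0_0)
  have g0 : Good P 0 := good_gen (c := cd0) (p := 0) (by decide) (by decide) rfl a0
    (selOn_A (B := 10) (by decide) c0.1.1 c0.1.2 (scan_all (d := 5) (c := 1) (by decide) (fun lo h => by obtain rfl : lo = 0 := (by omega); exact c0.2)))
  have c1 := ck1
  simp only [Bool.and_eq_true] at c1
  have a1 := br_spec h (i := 1) (by decide) (f := act 1) (scan_all (d := 5) (c := 1) (by decide)
    fun lo h => by interval_cases lo <;> first | exact br1_0)
  have g1 : Good P 1 := good_gen (c := cd0) (p := 2) (by decide) (by decide) rfl a1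
    (selOn_A (B := 10) (by decide) c1.1.1 c1.1.2 (scan_all (d := 5) (c := 1) (by decide) (fun lo h => by obtain rfl : lo = 0 := (by omega); exact c1.2)))
  have c2 := ck2
  simp only [Bool.and_eq_true] at c2
  have a2 := br_spec h (i := 2) (by decide) (f := act 2) (scan_all (d := 5) (c := 1) (by decide)
    fun lo h => by interval_cases lo <;> first | exact br2_0)
  have g2 : Good P 2 := good_gen (c := cd0) (p := 10) (by decide) (by decide) rfl a2
    (selOn_A (B := 10) (by decide) c2.1.1 c2.1.2 (scan_all (d := 5) (c := 1) (by decide) (fun lo h => by obtain rfl : lo = 0 := (by omega); exact c2.2)))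
  have c3 := ck3
  simp only [Bool.and_eq_true] at c3
  have a3 := br_spec h (i := 3) (by decide) (f := act 3) (scan_all (d := 5) (c := 1) (by decide)
    fun lo h => by interval_cases lo <;> first | exact br3_0)
  have g3 : Good P 3 := good_gen (c := cd0) (p := 37) (by decide) (by decide) rfl a3
    (selOn_A (B := 10) (by decide) c3.1.1 c3.1.2 (scan_all (d := 5) (c := 1) (by decide) (fun lo h => by obtain rfl : lo = 0 := (by omega); exact c3.2)))
  have c4 := ck4
  simp only [Bool.and_eq_true] at c4
  have a4 := br_spec h (i := 4) (by decide) (f := act 4) (scan_all (d := 5) (c := 1) (by decide)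
    fun lo h => by interval_cases lo <;> first | exact br4_0)
  have g4 : Good P 4 := good_gen (c := cd0) (p := 105) (by decide) (by decide) rfl a4
    (selOn_A (B := 10) (by decide) c4.1.1 c4.1.2 (scan_all (d := 5) (c := 1) (by decide) (fun lo h => by obtain rfl : lo = 0 := (by omega); exact c4.2)))
  have c5 := ck5
  simp only [Bool.and_eq_true] at c5
  have a5 := br_spec h (i := 5) (by decide) (f := act 5) (scan_all (d := 5) (c := 1) (by decide)
    fun lo h => by interval_cases lo <;> first | exact br5_0)
  have g5 : Good P 5 := good_gen (c := cd0) (p := 13) (by decide) (by decide) rfl a5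
    (selOn_A (B := 10) (by decide) c5.1.1 c5.1.2 (scan_all (d := 5) (c := 1) (by decide) (fun lo h => by obtain rfl : lo = 0 := (by omega); exact c5.2)))
  have c6 := ck6
  simp only [Bool.and_eq_true] at c6
  have a6 := br_spec h (i := 6) (by decide) (f := act 6) (scan_all (d := 5) (c := 1) (by decide)
    fun lo h => by interval_cases lo <;> first | exact br6_0)
  have g6 : Good P 6 := good_gen (c := cd0) (p := 46) (by decide) (by decide) rfl a6
    (selOn_A (B := 10) (by decide) c6.1.1 c6.1.2 (scan_all (d := 5) (c := 1) (by decide) (fun lo h => by obtain rfl : lo = 0 := (by omega); exact c6.2)))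
  have c7 := ck7
  simp only [Bool.and_eq_true] at c7
  have a7 := br_spec h (i := 7) (by decide) (f := act 7) (scan_all (d := 5) (c := 1) (by decide)
    fun lo h => by interval_cases lo <;> first | exact br7_0)
  have g7 : Good P 7 := good_gen (c := cd0) (p := 107) (by decide) (by decide) rfl a7
    (selOn_A (B := 10) (by decide) c7.1.1 c7.1.2 (scan_all (d := 5) (c := 1) (by decide) (fun lo h => by obtain rfl : lo = 0 := (by omega); exact c7.2)))
  have c8 := ck8
  have c9 := ck9
  simp only [Bool.and_eq_true] at c8 c9
  obtain ⟨g8, g9⟩ : Good P 8 ∧ Good P 9 := good_pair (c := cd0) (N := net8) rfl rfl rfl rfl <| good_aux (w := [5, 0, 1, 2, 6, 7, 3, 4])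
    (by simp only [List.forall_mem_cons, List.not_mem_nil, false_imp_iff, implies_true, and_true]
        exact ⟨g5, g0, g1, g2, g6, g7, g3, g4⟩)
    (by decide) c8.1.1 c8.1.2 c9.1 ckw8
    (fun π h l => eq_of_agA (B := 10) (by decide) h l (scan_all (d := 5) (c := 1) (by decide) (fun lo h => by obtain rfl : lo = 0 := (by omega); exact c8.2)))
    (fun π h l => eq_of_agA (B := 10) (by decide) h l (scan_all (d := 5) (c := 1) (by decide) (fun lo h => by obtain rfl : lo = 0 := (by omega); exact c9.2)))
  have c10 := ck10
  have c11 := ck11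
  simp only [Bool.and_eq_true] at c10 c11
  obtain ⟨g10, g11⟩ : Good P 10 ∧ Good P 11 := good_pair (c := cd0) (N := net10) rfl rfl rfl rfl <| good_aux (w := [9, 7, 9, 4, 9, 7, 8, 0, 9, 4, 8])
    (by simp only [List.forall_mem_cons, List.not_mem_nil, false_imp_iff, implies_true, and_true]
        exact ⟨g9, g7, g9, g4, g9, g7, g8, g0, g9, g4, g8⟩)
    (by decide) c10.1.1 c10.1.2 c11.1 ckw10
    (fun π h l => eq_of_agA (B := 10) (by decide) h l (scan_all (d := 5) (c := 1) (by decide) (fun lo h => by obtain rfl : lo = 0 := (by omega); exact c10.2)))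
    (fun π h l => eq_of_agA (B := 10) (by decide) h l (scan_all (d := 5) (c := 1) (by decide) (fun lo h => by obtain rfl : lo = 0 := (by omega); exact c11.2)))
  have c12 := ck12
  have c13 := ck13
  simp only [Bool.and_eq_true] at c12 c13
  obtain ⟨g12, g13⟩ : Good P 12 ∧ Good P 13 := good_pair (c := cd0) (N := net12) rfl rfl rfl rfl <| good_aux (w := [9, 0, 9, 4, 9, 4, 10, 4, 9, 2, 9])
    (by simp only [List.forall_mem_cons, List.not_mem_nil, false_imp_iff, implies_true, and_true]
        exact ⟨g9, g0, g9, g4, g9, g4, g10, g4, g9, g2, g9⟩)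
    (by decide) c12.1.1 c12.1.2 c13.1 ckw12
    (fun π h l => eq_of_agA (B := 10) (by decide) h l (scan_all (d := 5) (c := 1) (by decide) (fun lo h => by obtain rfl : lo = 0 := (by omega); exact c12.2)))
    (fun π h l => eq_of_agA (B := 10) (by decide) h l (scan_all (d := 5) (c := 1) (by decide) (fun lo h => by obtain rfl : lo = 0 := (by omega); exact c13.2)))
  have c14 := ck14
  have c15 := ck15
  simp only [Bool.and_eq_true] at c14 c15
  obtain ⟨g14, g15⟩ : Good P 14 ∧ Good P 15 := good_pair (c := cd0) (N := net14) rfl rfl rfl rfl <| good_aux (w := [9, 7, 10, 1, 9, 0, 8, 1, 9, 6, 11])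
    (by simp only [List.forall_mem_cons, List.not_mem_nil, false_imp_iff, implies_true, and_true]
        exact ⟨g9, g7, g10, g1, g9, g0, g8, g1, g9, g6, g11⟩)
    (by decide) c14.1.1 c14.1.2 c15.1 ckw14
    (fun π h l => eq_of_agA (B := 10) (by decide) h l (scan_all (d := 5) (c := 1) (by decide) (fun lo h => by obtain rfl : lo = 0 := (by omega); exact c14.2)))
    (fun π h l => eq_of_agA (B := 10) (by decide) h l (scan_all (d := 5) (c := 1) (by decide) (fun lo h => by obtain rfl : lo = 0 := (by omega); exact c15.2)))
  have hg : ∀ j, Good P j := by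
    intro j
    by_cases hj : j < 16
    · interval_cases j <;> assumption
    · refine good_alias g0 ?_ ?_ ?_
      · have : tabOf j = tabOf 0 := nth_of_le _ _ (by simpa using hj)
        funext i
        show act j i = act 0 i
        simp only [act, this]
      · have h1 : netOf j = netOf 0 := nth_of_le _ _ (by simpa using hj)
        have h2 : isRev j = isRev 0 := nth_of_le _ _ (by simpa using hj)
        funext i
        show img j i = img 0 i
        simp only [img, h1, h2]
      · have h1 : inv j = inv 0 := nth_of_le _ _ (by simpa using hj)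
        exact h1
  obtain ⟨M, hM⟩ := FM.exists_mdl (c := cd0) hg (by decide) (by decide) (fun i hi => by
      refine ((P.ac_eq_iff hi (a0 i hi).1).2 ?_).symm
      rw [P.pt_inv (by decide)]
      exact (a0 i hi).2.symm) (by decide) (by decide)
    (scan_all (d := 5) (c := 1) (by decide) fun lo h => by
      interval_cases lo <;> first | exact ckp0)
    (Nat.eq_of_beq_eq_true ckadj)
  obtain ⟨N, hN⟩ := M.rebase bs (by decide) _ (by decide) ckslp
  exact ⟨N, by rw [hN, hM]; rfl⟩

end Cfsg.Agent.FM.F21
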