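import Cfsg.Agent.FM.O8I

/-! The subgroup `O₈⁺(2) : S₃` generated by the fixed points of the outer involution `sigma22`. -/

set_option autoImplicit false
set_option maxRecDepth 100000

namespace Cfsg.Agent.FM

open Cfsg Cfsg.Agent.GT Subgroup Mdl

theorem Mdl.CS_conj {G : Type*} [Group G] {D : Set G} {c : CD} {M : Mdl G D c} {g : G} {Z Z' : ℕ}
    (h : M.MapS g Z Z') : cj[g] (M.CS [] [Z]) = M.CS [] [Z'] := by
  ext k
  constructor
  · rintro ⟨a, ha, rfl⟩
    refine ⟨fun _ h => absurd h List.not_mem_nil, fun Y hY => ?_⟩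
    rw [List.mem_singleton.1 hY]
    simpa [mul_assoc] using (h.inv.comp (ha.2 Z List.mem_cons_self)).comp h
  · intro hk
    refine ⟨g⁻¹ * k * g, ⟨fun _ h => absurd h List.not_mem_nil, fun Y hY => ?_⟩, by simp [mul_assoc]⟩
    rw [List.mem_singleton.1 hY]
    simpa [mul_assoc] using (h.comp (hk.2 Z' List.mem_cons_self)).comp h.inv

namespace F22

/-- the fixed points of `sigma22`. -/
def L360 : List ℕ := [0, 1, 2, 3, 5, 7, 10, 11, 15, 17, 21, 22, 24, 29, 33, 37, 38, 39, 41, 44, 46, 52, 53, 65, 66, 67, 68, 71, 72, 77, 87, 88, 105, 106, 107, 108, 109, 110, 115, 116, 139, 140, 142, 166, 167, 175, 177, 205, 207, 235, 248, 286, 289, 327, 368, 374, 389, 442, 443, 516, 598, 610, 664, 693, 694, 695, 696, 697, 698, 699, 701, 702, 704, 707, 709, 710, 717, 718, 723, 724, 736, 737, 738, 749, 770, 771, 772, 774, 821, 822, 823, 825, 826, 894, 895, 896, 898, 899, 903, 998, 999, 1001, 1002, 1006, 1007, 1145, 1146, 1150, 1151, 1159, 1160, 1336, 1337, 1345, 1346, 1347, 1359, 1580, 1581, 1582, 2582, 2747, 2815,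 2887, 2953, 2958, 2965, 2972, 2975, 2976, 2977, 3011, 3050, 3066, 3069, 3078, 3081, 3083, 3084, 3110, 3113, 3116, 3121, 3124, 3125, 3147, 3151, 3162, 3168, 3171, 3172, 3173, 3191, 3196, 3199, 3201, 3203, 3206, 3208, 3210, 3212, 3214, 3215, 3218, 3220, 3221, 3222, 3225, 3226, 3227, 3228, 3240, 3241, 3242, 3244, 3245, 3246, 3262, 3264, 3267, 3270, 3272, 3273, 3279, 3281, 3282, 3283, 3284, 3285, 3287, 3290, 3291, 3292, 3293, 3294, 3295, 3296, 3304, 3306, 3307, 3308, 3309, 3310, 3311, 3312, 3313, 3314, 3316, 3317, 3318, 3328, 3329, 3331, 3332, 3334, 3335, 3338, 3341, 3343, 3344, 3346, 3348, 3349, 3350, 3353, 3354, 3355, 3356, 3357, 3363, 3365, 3366, 3368, 3369, 3371, 3372, 3373, 3374, 3375, 3376, 3377, 3378, 3379, 3380, 3382, 3383, 3384, 3385, 3386, 3388, 3390, 3391, 3392, 3393, 3395, 3396, 3397, 3398, 3399, 3400, 3403, 3404, 3405, 3406, 3411, 3412, 3413, 3414, 3415, 3416, 3417, 3418, 3419, 3420, 3421, 3422, 3423, 3424, 3425, 3426, 3427, 3428, 3429, 3430, 3431, 3432, 3433, 3434, 3435, 3436, 3437, 3438,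 3439, 3440, 3442, 3443, 3444, 3445, 3446, 3447, 3448, 3449, 3450, 3451, 3452, 3453, 3454, 3455, 3456, 3457, 3458, 3459, 3460, 3461, 3464, 3465, 3466, 3467, 3468, 3469, 3470, 3471, 3472, 3473, 3474, 3475, 3476, 3477, 3478, 3479, 3480, 3481, 3482, 3483, 3484, 3485, 3486, 3487, 3488, 3489, 3490, 3491, 3492, 3493, 3494, 3495, 3496, 3497, 3498, 3499, 3500, 3501, 3502, 3503, 3504, 3505, 3506, 3507, 3508, 3509]
/-- the same set as a bit mask. -/
noncomputable def Z360 : ℕ := 0x3fffffffffff3ffffdfffffff879fbd7dffb683e75a4db0077fd01fcbe8349400077001e74d54a90800039040088000032124000001a4024000400000000080000000390204200000000000000008000000000000000008000000000000000080000000000000000000000000000000000000000400000000000000000000000000000000000000000000000000000000000000000000000000000000000000000000000000000000000000000000000000000000000000000000000000000000000000000000000000000000000000000000000000000000000000000000000000000000000000000000000000000000070000000000000000000000000000000000000000000000000000000800e030000000000000000000000000000000000000000000180c60000000000000000000000000000000000c6c000000000000000000000008dc00000000000000006e000000000005c00002007001860696fe00000010000000000000400400000000000000000001000000000000000000c0000000000002000410000000000800000000240000000010008000000a000000280c00000580000187e000180219e003052e221628caf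
def b360 : List ℕ := [3379, 3125, 3397, 3498, 3404, 2887, 3419, 3509, 3449]
def h360 : Ex := .ps [2956, 2946, 570, 1, 75, 24, 47, 21, 107, 46]

theorem ofL_L360 : ofL L360 = Z360 := Nat.eq_of_beq_eq_true (by decide +kernel)
theorem im_h360 : cd.im h360 (nth C22.I8.Zs 0 0) = Z360 := Nat.eq_of_beq_eq_true (by decide +kernel)

variable {G : Type*} [Group G] [Finite G] {D : Set G} (M : Mdl G D cd)

omit [Finite G] in
theorem cj_I8 : cj[M.ev h360] (I8 M) = M.CS [] [Z360] :=
  CS_conj (mapS_of_im im_h360)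

omit [Finite G] in
theorem closure_L360_b : closure (M.pts L360) = closure (M.pts b360) := by
  have hl : cd.ltL L360 = true := by decide +kernel
  have hb : ∀ p ∈ b360, p ∈ L360 := by decide +kernel
  refine M.closure_cover (x := ⟨[], [], [Z360]⟩) (e := .env 0) (ro := [0, 1, 2, 3, 4, 5, 6, 7, 8, 0, 1, 2, 3, 4, 5, 6, 7, 8, 0, 1, 2, 3, 4, 5, 6, 7, 8, 0, 1, 2, 3, 4, 5, 6, 7, 8, 0, 1, 2, 3, 4, 5, 6, 7, 8])
    (by rintro _ ⟨p, hp, rfl⟩; exact M.mem p (ltL_spec hl p hp)) (fun y hy hs => ?_) (by decide +kernel)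
    (by rintro _ ⟨p, hp, rfl⟩; exact ⟨p, hb p hp, rfl⟩) (by decide +kernel)
  obtain ⟨p, hp, e⟩ := hs
  replace hp : p ∈ L360 := hp
  rw [M.inj p (ltL_spec hl p hp) y hy e] at hp
  show Z360.testBit y = true
  rw [← ofL_L360, testBit_ofL]; exact decide_eq_true hp

omit [Finite G] in
/-- the group generated by the 360 points is the stabiliser of the point set. -/
theorem closure_L360 (hG : Nat.card G = 64561751654400) :
    closure (M.pts L360) = M.CS [] [Z360] := by
  rw [closure_L360_b]
  refine le_antisymm ((closure_le _).2 ?_) ?_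
  · rintro _ ⟨p, hp, rfl⟩
    have := memCS_spec (M := M) (Xs := []) (Zs := [Z360]) (ls := [[]]) (Gs := p1 b360)
      (by decide +kernel) _ (List.mem_map.2 ⟨p, hp, rfl⟩)
    rwa [M.ev_ps1 (ltL_spec (by decide +kernel) p hp)] at this
  · rw [← cj_I8, map_le_iff_le_comap]
    refine (I8_res M hG fun a ha => ?_).1
    have k : ∀ a ∈ C22.I8.As, ∃ b ∈ p1 b360, cd.eqE (h360.cj a) b = true := by decide +kernel
    obtain ⟨b, hb, e⟩ := k a ha
    have := M.p1_mem (l := b360) (by decide +kernel) b hb
    rw [← M.eq_of_eqE e, ev_cj] at this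
    exact this

omit [Finite G] in
theorem closure_L360_cj (hG : Nat.card G = 64561751654400) :
    closure (M.pts L360) = cj[M.ev h360] (I8 M) := (closure_L360 M hG).trans (cj_I8 M).symm

omit [Finite G] in
theorem card_L360 (hG : Nat.card G = 64561751654400) : Nat.card (closure (M.pts L360)) = 1045094400 := by
  rw [closure_L360_cj M hG, card_map_of_injective (MulEquiv.injective _)]
  exact (I8_res M hG (K := ⊤) fun _ _ => mem_top _).2

theorem equiv_L360 (hG : Nat.card G = 64561751654400) :
    Nonempty (closure (M.pts L360) ≃* MulAut (Omega (ZMod 2) (quadFormPlus 4 (ZMod 2)))) := by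
  rw [closure_L360_cj M hG]
  exact ⟨(MulEquiv.subgroupMap (MulAut.conj (M.ev h360)) (I8 M)).symm.trans (I8_equiv M hG).some⟩

end F22

end Cfsg.Agent.FM
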