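import Cfsg.Agent.FM.Model
import Cfsg.Agent.FM.D21_0

/-! The tables of the model on 693 points. -/

set_option autoImplicit false
set_option maxRecDepth 100000
set_option Elab.async false

namespace Cfsg.Agent.FM.F21

open Cfsg.Agent.M24 (nall lall)

noncomputable def tabOf (j : ℕ) : ℕ := nth [tab0, tab1, tab2, tab3, tab4, tab5, tab6, tab7, tab8, tab9, tab10, tab11, tab12, tab13, tab14, tab15] tab0 j
noncomputable def act (j i : ℕ) : ℕ :=
  Nat.land (Nat.shiftRight (tabOf j) (Nat.mul (nat_lit 10) i)) (nat_lit 1023)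
noncomputable def pd (i : ℕ) : ℕ :=
  Nat.land (Nat.shiftRight tabP (Nat.mul (nat_lit 8) i)) (nat_lit 255)
noncomputable def par (i : ℕ) : ℕ := Nat.land (pd i) (nat_lit 31)
noncomputable def dep (i : ℕ) : ℕ := Nat.shiftRight (pd i) (nat_lit 5)
noncomputable def netOf (j : ℕ) : NL := nth [net0, net1, net2, net3, net4, net5, net6, net7, net8, net8, net10, net10, net12, net12, net14, net14] net0 j
noncomputable def isRev (j : ℕ) : Bool := nth [false, false, false, false, false, false, false, false, false, true, false, true, false, true, false, true] false j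
noncomputable def img (j X : ℕ) : ℕ :=
  Bool.rec (motive := fun _ => ℕ) (NL.fwd (netOf j) X) (NL.rev (netOf j) X) (isRev j)
noncomputable def inv (j : ℕ) : ℕ := nth [nat_lit 0, nat_lit 1, nat_lit 2, nat_lit 3, nat_lit 4, nat_lit 5, nat_lit 6, nat_lit 7, nat_lit 9, nat_lit 8, nat_lit 11, nat_lit 10, nat_lit 13, nat_lit 12, nat_lit 15, nat_lit 14] (nat_lit 0) j
def bs0 : List ℕ := [nat_lit 0, nat_lit 2, nat_lit 10, nat_lit 37, nat_lit 105, nat_lit 13, nat_lit 46, nat_lit 107]
def bs : List ℕ := [nat_lit 0, nat_lit 43, nat_lit 22, nat_lit 14, nat_lit 461, nat_lit 305]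
noncomputable def cd0 : CD := ⟨nat_lit 693, nat_lit 10, act, img, inv, par, adj0, bs0⟩
/-- the tables of the model (letters `0..7` are the generators of `Fi.gp`, the others come in inverse pairs) -/
noncomputable def cd : CD := ⟨nat_lit 693, nat_lit 10, act, img, inv, par, adj0, bs⟩


end Cfsg.Agent.FM.F21
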